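import Cfsg.Agent.H984.PV.Tool
import Cfsg.Agent.H904.SV.Th
import Cfsg.Agent.H620.PNorm

/-!
# A vanishing 2-element of the Thompson group (helper984)

In `C(a) = 2^{1+8}.A_9` let `w` be an element of order 24 over the cycle type `2 3 4`
(`#C(w) ≤ 24`) and `x = w ^ 3` of order 8 (`#C(x) ≤ 96`, rational). The group has at least 33
classes, and `96 + 8 * 24 < 9 * 33`.
-/

set_option autoImplicit false
set_option maxRecDepth 100000
set_option linter.unusedSectionVars false

namespace Cfsg.Agent.H984.PV.Th2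

open Subgroup Cfsg Cfsg.Agent.H713 Cfsg.Agent.H665.NoPQ
open Cfsg.Agent.Th.Base Cfsg.Agent.Th.Word Cfsg.Agent.Th.RelWords Cfsg.Agent.Th.PermTab
  Cfsg.Agent.Th.KOracle Cfsg.Agent.Th.KPerm Cfsg.Agent.Th.NineAct Cfsg.Agent.Th.CStruct
  Cfsg.Agent.Th.COracleDef Cfsg.Agent.Th.COracleSound
open Cfsg.Agent.KFacts.Th.Mask Cfsg.Agent.KFacts.Th.Struct
open Cfsg.Agent.CpAutTh.Data Cfsg.Agent.CpAutTh.Alt Cfsg.Agent.CpAutTh.Local
  Cfsg.Agent.CpAutTh.ThreePerm Cfsg.Agent.CpAutTh.ThreeE
open Cfsg.Agent.CpAutTh.Mid Cfsg.Agent.H723.Spor.ThMix Cfsg.Agent.H904.SV.Th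

universe u v

/-- the word of `x = w ^ 3` -/
def X8 : List ℕ := [4, 7, 10, 4, 7, 10, 4, 7, 10]

def Tw : Tab :=
  [([1, 2, 4, 6, 7], false), ([0], false), ([0, 1, 4, 7], true), ([0, 4, 6, 7], true),
   ([0, 2, 3, 5], false), ([0, 1, 6, 7], false), ([0, 1, 4, 6], false), ([1, 4, 5, 6, 7], true),
   ([1, 3, 4, 6, 7], false)]

def Tx : Tab :=
  [([1, 2, 3, 5, 6], true), ([1, 2, 3, 4], true), ([0, 4, 6, 7], false), ([1, 2, 3, 5, 7], true),
   ([1, 3, 4, 5], true), ([0, 1, 2, 3, 5], false), ([1, 2, 4, 5], false), ([4], true),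
   ([2, 3, 4, 5], false)]

theorem chkw : chk (wd 15) Tw = true := by decide +kernel

theorem chkx : chk X8 Tx = true := by decide +kernel

theorem fixw : allB 512 (fun m => or (par m) (or (Bool.not (Nat.beq (Lf (Mt Tw) 9 m) m))
    (([0] : List ℕ).any fun k => Nat.beq k m))) = true := by decide +kernel

theorem fixx : allB 512 (fun m => or (par m) (or (Bool.not (Nat.beq (Lf (Mt Tx) 9 m) m))
    (([0, 15, 149, 154] : List ℕ).any fun k => Nat.beq k m))) = true := by decide +kernel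

/-- conjugates `x` to `x a` -/
def Wc : List ℕ := [7, 7, 5, 4, 3, 4, 5, 6, 6, 4, 9, 10, 4, 10, 4, 6, 10, 4, 6]

/-- conjugates `x` to `x ^ 3` -/
def Wg : List ℕ := [4, 3, 4, 5, 4, 3, 4, 5, 10]

theorem corc_c : corc (Wc ++ (X8 ++ (iw Wc ++ (iw X8 ++ [1])))) = true := by decide +kernel

theorem corc_g : corc (Wg ++ (X8 ++ (iw Wg ++ iw (X8 ++ (X8 ++ X8))))) = true := by decide +kernel

theorem tyx : (pm9 X8).cycleType = {2, 4} := by decide +kernel

theorem cX8 : ∀ x ∈ X8, isC x = true := by decide +kernel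

theorem oddw : Equiv.swap (0 : Fin 9) 1 * pm9 (wd 15) = pm9 (wd 15) * Equiv.swap 0 1 := by
  decide +kernel

theorem oddx : Equiv.swap (0 : Fin 9) 1 * pm9 X8 = pm9 X8 * Equiv.swap 0 1 := by
  decide +kernel

theorem cardw : Nat.card ↥(centralizer ({pm9 (wd 15)} : Set (Equiv.Perm (Fin 9)))) = 2 * 12 := by
  rw [Equiv.Perm.nat_card_centralizer, wd_ty]
  decide

theorem cardx : Nat.card ↥(centralizer ({pm9 X8} : Set (Equiv.Perm (Fin 9)))) = 2 * 24 := by
  rw [Equiv.Perm.nat_card_centralizer, tyx]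
  decide

section

variable {G : Type u} [Group G] {γ : ℕ → G} (h : Ctx γ)
  {f : sub γ isC →* alternatingGroup (Fin 9)} (F : Epi γ f)
include h

theorem a_mem_Q : γ 1 ∈ Q0 γ := a_mem

/-- the masks of elements commuting with a word modulo `a` -/
theorem comm_mask' {X : List ℕ} {T : Tab} (hc : chk X T = true) {L : List ℕ}
    (hL : allB 512 (fun m => or (par m) (or (Bool.not (Nat.beq (Lf (Mt T) 9 m) m))
      (L.any fun k => Nat.beq k m))) = true)
    {q : G} (hq : q ∈ Q0 γ)
    (hqx : (ev γ X)⁻¹ * q * ev γ X = q ∨ (ev γ X)⁻¹ * q * ev γ X = q * γ 1) :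
    ∃ m ∈ L, HM (γ 1) (cc γ) q m := by
  obtain ⟨m, hm⟩ := exists_mask h.data hq
  have h1 := conj_mask h hc q hq m hm
  have h3 : Lf (Mt T) 9 m = m := by
    rcases hqx with h2 | h2
    · rw [h2] at h1
      exact unique h.data h1 hm
    · rw [h2] at h1
      have h5 := mul h.data hq hm (mask_a h.data)
      rw [Nat.xor_zero] at h5
      exact unique h.data h1 h5
  have h4 := (allB_iff _ _).mp hL m hm.1
  rw [par_eq h.data hq hm, Bool.false_or, h3] at h4
  have h5 : (Nat.beq m m) = true := Nat.beq_refl m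
  rw [h5, Bool.not_true, Bool.false_or, List.any_eq_true] at h4
  obtain ⟨k, hk, hk2⟩ := h4
  rw [Nat.beq_eq] at hk2
  exact ⟨m, hk2 ▸ hk, hm⟩

include F

/-- The order of a group of elements commuting with a word modulo `a`. -/
theorem card_gen {X : List ℕ} {T : Tab} (hX : ∀ x ∈ X, isC x = true) (hc : chk X T = true)
    {L : List ℕ}
    (hL : allB 512 (fun m => or (par m) (or (Bool.not (Nat.beq (Lf (Mt T) 9 m) m))
      (L.any fun k => Nat.beq k m))) = true)
    (D : Subgroup G) (hDa : ∀ g ∈ D, g * γ 1 = γ 1 * g)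
    (hDX : ∀ g ∈ D, (ev γ X)⁻¹ * g * ev γ X = g ∨ (ev γ X)⁻¹ * g * ev γ X = g * γ 1)
    {σ : Equiv.Perm (Fin 9)} (hσ : Equiv.Perm.sign σ = -1) (hσX : σ * pm9 X = pm9 X * σ) {n : ℕ}
    (hn : Nat.card ↥(centralizer ({pm9 X} : Set (Equiv.Perm (Fin 9)))) = 2 * n) :
    Nat.card D ≤ (L.length * 2) * n := by
  classical
  have hfin := h.fin
  have hle : D ≤ sub γ isC := fun k hk => h.mem_C.2 (hDa k hk)
  let φ : ↥D →* alternatingGroup (Fin 9) := f.comp (Subgroup.inclusion hle)
  have hkerQ : ∀ k : ↥D, φ k = 1 → (k : G) ∈ Q0 γ := by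
    intro k hk
    exact (mem_ker F (x := Subgroup.inclusion hle k)).1 (MonoidHom.mem_ker.2 hk)
  have hm : ∀ k : ↥φ.ker, ∃ m ∈ L, HM (γ 1) (cc γ) ((k : ↥D) : G) m := by
    intro k
    exact comm_mask' h hc hL (hkerQ k k.2) (hDX _ (k : ↥D).2)
  choose μ hμL hμ using hm
  have hker : Nat.card ↥φ.ker ≤ L.length * 2 := by
    -- a representative of each mask
    have hr : ∃ r : ℕ → G, ∀ k : ↥φ.ker, ((k : ↥D) : G) = r (μ k) ∨ ((k : ↥D) : G) = r (μ k) * γ 1 := by
      refine ⟨fun m => if hm : ∃ k : ↥φ.ker, μ k = m then ((hm.choose : ↥D) : G) else 1, fun k => ?_⟩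
      have hex : ∃ k' : ↥φ.ker, μ k' = μ k := ⟨k, rfl⟩
      simp only [hex, dif_pos]
      have h1 := hex.choose_spec
      have h2 := hμ hex.choose
      rw [h1] at h2
      exact eq_of_mask h.data h.cardQ (hkerQ hex.choose hex.choose.2) (hkerQ k k.2) h2 (hμ k)
    obtain ⟨r, hr⟩ := hr
    have h1 : Function.Injective fun k : ↥φ.ker =>
        ((⟨μ k, List.mem_toFinset.2 (hμL k)⟩ : {m // m ∈ L.toFinset}), decide (((k : ↥D) : G) = r (μ k))) := by
      intro k l hkl
      simp only [Prod.mk.injEq, Subtype.mk.injEq, decide_eq_decide] at hkl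
      obtain ⟨h2, h3⟩ := hkl
      apply Subtype.ext
      apply Subtype.ext
      rw [h2] at h3
      by_cases h4 : ((k : ↥D) : G) = r (μ l)
      · rw [h4, h3.1 h4]
      · have h5 : ¬ ((l : ↥D) : G) = r (μ l) := fun h => h4 (h3.2 h)
        have h6 := (hr k).resolve_left (by rw [h2]; exact h4)
        have h7 := (hr l).resolve_left h5
        rw [h6, h7, h2]
    have h2 := Nat.card_le_card_of_injective _ h1
    rw [Nat.card_prod, Nat.card_eq_fintype_card (α := {m // m ∈ L.toFinset}), Fintype.card_coe,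
      show Nat.card Bool = 2 by simp] at h2
    exact h2.trans (Nat.mul_le_mul_right 2 (List.toFinset_card_le L))
  have hfa : f ⟨γ 1, hle' h⟩ = 1 := by
    have : (⟨γ 1, hle' h⟩ : sub γ isC) ∈ f.ker := (mem_ker F).2 (a_mem_Q h)
    exact MonoidHom.mem_ker.1 this
  have hrange : φ.range ≤ centralizer ({f ⟨ev γ X, ev_mem_sub hX⟩} : Set (alternatingGroup (Fin 9))) := by
    rintro _ ⟨k, rfl⟩
    rw [mem_centralizer_singleton_iff]
    change f (Subgroup.inclusion hle k) * f _ = f _ * f (Subgroup.inclusion hle k)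
    rw [← map_mul, ← map_mul]
    rcases hDX k k.2 with h1 | h1
    · congr 1
      apply Subtype.ext
      change (k : G) * ev γ X = ev γ X * k
      rw [mul_assoc, inv_mul_eq_iff_eq_mul] at h1
      exact h1
    · have h2 : Subgroup.inclusion hle k * ⟨ev γ X, ev_mem_sub hX⟩ =
          ⟨ev γ X, ev_mem_sub hX⟩ * Subgroup.inclusion hle k * ⟨γ 1, hle' h⟩ := by
        apply Subtype.ext
        change (k : G) * ev γ X = ev γ X * k * γ 1
        rw [mul_assoc, inv_mul_eq_iff_eq_mul, ← mul_assoc] at h1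
        exact h1
      rw [h2, map_mul, hfa, mul_one]
  have hcent : Nat.card ↥(centralizer ({f ⟨ev γ X, ev_mem_sub hX⟩} : Set (alternatingGroup (Fin 9)))) = n := by
    have h2 := card_cent_alt (f ⟨ev γ X, ev_mem_sub hX⟩) σ hσ (by rw [F.word X hX]; exact hσX)
    rw [F.word X hX, hn] at h2
    omega
  have hrg : Nat.card ↥φ.range ≤ n := by
    rw [← hcent]
    exact Nat.card_le_card_of_injective _ (Subgroup.inclusion_injective hrange)
  have h3 := Subgroup.card_mul_index φ.ker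
  rw [Subgroup.index_ker] at h3
  rw [← h3]
  exact Nat.mul_le_mul hker hrg
where
  hle' {G : Type u} [Group G] {γ : ℕ → G} (h : Ctx γ) : γ 1 ∈ sub γ isC :=
    h.mem_C.2 rfl

/-- the centralizer of the element of order 24 -/
theorem card_w : Nat.card ↥(centralizer ({ev γ (wd 15)} : Set G)) ≤ 24 := by
  refine (card_gen h F (wd_isC 15) chkw fixw _ ?_ ?_ (σ := Equiv.swap 0 1) (by decide) oddw cardw).trans
    (by norm_num)
  · intro k hk
    have h1 : Commute k (ev γ (wd 15)) := mem_centralizer_singleton_iff.1 hk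
    have h2 := h1.pow_right (hf 15)
    rw [pow_a h] at h2
    exact h2
  · intro k hk
    left
    rw [mul_assoc, mem_centralizer_singleton_iff.1 hk, inv_mul_cancel_left]

omit F in
theorem x_eq : ev γ (wd 15) ^ 3 = ev γ X8 := by
  rw [show X8 = wd 15 ++ (wd 15 ++ wd 15) from rfl, ev_append, ev_append, pow_three]

omit F in
theorem x_four : ev γ X8 ^ 4 = γ 1 := by
  rw [← x_eq h, ← pow_mul]
  exact pow_a h 15

omit F in
theorem a_x : γ 1 * ev γ X8 = ev γ X8 * γ 1 := by
  rw [← x_four h, ← pow_succ, ← pow_succ']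

omit F in
theorem conj_c : ev γ Wc * ev γ X8 * (ev γ Wc)⁻¹ = ev γ X8 * γ 1 := by
  have h1 := ev_one h corc_c
  rw [ev_append, ev_append, ev_append, ev_append, ev_iw h.inv, ev_iw h.inv, ev_singleton] at h1
  have h2 : (ev γ Wc * ev γ X8 * (ev γ Wc)⁻¹) * ((ev γ X8)⁻¹ * γ 1) = 1 := by
    rw [← h1]; group
  have h3 := eq_inv_of_mul_eq_one_left h2
  rw [h3, mul_inv_rev, inv_inv, inv_eq_of_mul_eq_one_left h.aa, a_x h]

omit F in
theorem conj_g : ev γ Wg * ev γ X8 * (ev γ Wg)⁻¹ = ev γ X8 ^ 3 := by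
  have h1 := ev_one h corc_g
  rw [ev_append, ev_append, ev_append, ev_iw h.inv, ev_iw h.inv, ev_append, ev_append] at h1
  have h2 : (ev γ Wg * ev γ X8 * (ev γ Wg)⁻¹) * (ev γ X8 * (ev γ X8 * ev γ X8))⁻¹ = 1 := by
    rw [← h1]; group
  have h3 := eq_inv_of_mul_eq_one_left h2
  rw [h3, inv_inv, pow_three]

omit F in
/-- the elements conjugating a word to itself or to its product with `a` -/
def DD (X : List ℕ) : Subgroup G where
  carrier := {g | g * γ 1 = γ 1 * g ∧
    (g * ev γ X = ev γ X * g ∨ g * ev γ X = ev γ X * g * γ 1)}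
  one_mem' := ⟨by simp, Or.inl (by simp)⟩
  mul_mem' := by
    rintro g k ⟨hg, hg'⟩ ⟨hk, hk'⟩
    refine ⟨by rw [mul_assoc, hk, ← mul_assoc, hg, mul_assoc], ?_⟩
    have haa : γ 1 * γ 1 = 1 := h.aa
    rcases hg' with hg' | hg' <;> rcases hk' with hk' | hk'
    · left
      rw [mul_assoc, hk', ← mul_assoc, hg', mul_assoc]
    · right
      rw [mul_assoc, hk', ← mul_assoc, ← mul_assoc, hg', mul_assoc _ g k]
    · right
      rw [mul_assoc, hk', ← mul_assoc, hg', mul_assoc _ (γ 1) k, ← hk]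
      simp only [mul_assoc]
    · left
      rw [mul_assoc, hk', ← mul_assoc, ← mul_assoc, hg', mul_assoc _ (γ 1) k, ← hk]
      simp only [mul_assoc]
      rw [haa, mul_one]
  inv_mem' := by
    rintro g ⟨hg, hg'⟩
    have haa : γ 1 * γ 1 = 1 := h.aa
    have hg1 : g⁻¹ * γ 1 = γ 1 * g⁻¹ := by
      rw [inv_mul_eq_iff_eq_mul, ← mul_assoc, hg, mul_inv_cancel_right]
    refine ⟨hg1, ?_⟩
    rcases hg' with hg' | hg'
    · left
      rw [inv_mul_eq_iff_eq_mul, ← mul_assoc, hg', mul_inv_cancel_right]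
    · right
      rw [inv_mul_eq_iff_eq_mul, ← mul_assoc, ← mul_assoc, hg', mul_assoc _ _ g⁻¹, ← hg1]
      simp only [mul_assoc]
      rw [mul_inv_cancel_left, haa, mul_one]

theorem card_DD {X : List ℕ} {T : Tab} (hX : ∀ x ∈ X, isC x = true) (hc : chk X T = true)
    {L : List ℕ}
    (hL : allB 512 (fun m => or (par m) (or (Bool.not (Nat.beq (Lf (Mt T) 9 m) m))
      (L.any fun k => Nat.beq k m))) = true)
    {σ : Equiv.Perm (Fin 9)} (hσ : Equiv.Perm.sign σ = -1) (hσX : σ * pm9 X = pm9 X * σ) {n : ℕ}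
    (hn : Nat.card ↥(centralizer ({pm9 X} : Set (Equiv.Perm (Fin 9)))) = 2 * n) :
    Nat.card (DD h X) ≤ (L.length * 2) * n := by
  refine card_gen h F hX hc hL (DD h X) (fun g hg => hg.1) ?_ hσ hσX hn
  rintro g ⟨hga, hg | hg⟩
  · left
    rw [mul_assoc, hg, inv_mul_cancel_left]
  · right
    rw [mul_assoc, hg, mul_assoc, inv_mul_cancel_left]

omit F in
/-- an element conjugating the word to its product with `a` -/
theorem two_mul_card {X : List ℕ} {k : ℕ} (hk : ev γ X ^ k = γ 1) {c : G}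
    (hc : c * ev γ X * c⁻¹ = ev γ X * γ 1) (hca : c * γ 1 = γ 1 * c) :
    Nat.card ↥(centralizer ({ev γ X} : Set G)) * 2 ≤ Nat.card (DD h X) := by
  classical
  have hfin := h.fin
  have hc' : c * ev γ X = ev γ X * c * γ 1 := by
    rw [mul_inv_eq_iff_eq_mul] at hc
    rw [hc, mul_assoc, mul_assoc, hca]
  have hcD : c ∈ DD h X := ⟨hca, Or.inr hc'⟩
  have hCD : ∀ l ∈ centralizer ({ev γ X} : Set G), l ∈ DD h X := by
    intro l hl
    have h1 : Commute l (ev γ X) := mem_centralizer_singleton_iff.1 hl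
    have h2 := h1.pow_right k
    rw [hk] at h2
    exact ⟨h2, Or.inl h1⟩
  have hinj : Function.Injective fun k : ↥(centralizer ({ev γ X} : Set G)) × Bool =>
      (if k.2 then ⟨(k.1 : G), hCD _ k.1.2⟩ else ⟨(k.1 : G) * c, mul_mem (hCD _ k.1.2) hcD⟩ :
        ↥(DD h X)) := by
    have hno : ∀ k l : ↥(centralizer ({ev γ X} : Set G)), (k : G) ≠ (l : G) * c := by
      intro k l hkl
      have h1 : c = (l : G)⁻¹ * k := by rw [hkl, inv_mul_cancel_left]
      have h2 : c ∈ centralizer ({ev γ X} : Set G) := by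
        rw [h1]
        exact mul_mem (inv_mem l.2) k.2
      rw [mem_centralizer_singleton_iff, hc'] at h2
      exact h.a1 (mul_eq_left.1 h2)
    rintro ⟨k, b⟩ ⟨l, b'⟩ hkl
    cases b <;> cases b' <;> simp only [if_true, Bool.false_eq_true, if_false, Subtype.mk.injEq] at hkl
    · rw [mul_left_inj] at hkl
      rw [Subtype.ext hkl]
    · exact absurd hkl.symm (hno l k)
    · exact absurd hkl (hno k l)
    · rw [Subtype.ext hkl]
  have h1 := Nat.card_le_card_of_injective _ hinj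
  rw [Nat.card_prod, show Nat.card Bool = 2 by simp] at h1
  exact h1

theorem card_x : Nat.card ↥(centralizer ({ev γ X8} : Set G)) ≤ 96 := by
  have hca : ev γ Wc * γ 1 = γ 1 * ev γ Wc := h.mem_C.1 (ev_mem_sub (by decide +kernel))
  have h1 := two_mul_card h (x_four h) (conj_c h) hca
  have h2 := card_DD h F cX8 chkx fixx (σ := Equiv.swap 0 1) (by decide) oddx cardx
  simp only [List.length_cons, List.length_nil] at h2
  omega

/-- `w` and `w a = w ^ 13` are not conjugate. -/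
theorem not_conj : ¬ IsConj (ev γ (wd 15)) (ev γ (wd 15) * γ 1) := by
  intro hcon
  obtain ⟨c, hc⟩ := isConj_iff.1 hcon
  have hfin := h.fin
  have haw : Commute (ev γ (wd 15)) (γ 1) := h.mem_C.1 (ev_mem_sub (wd_isC 15))
  have haa : γ 1 * γ 1 = 1 := h.aa
  have hca : c * γ 1 = γ 1 * c := by
    have h2 : (c * ev γ (wd 15) * c⁻¹) ^ hf 15 = c * ev γ (wd 15) ^ hf 15 * c⁻¹ := conj_pow
    rw [hc, haw.mul_pow, pow_a h 15, show hf 15 = 2 * 6 from rfl, pow_mul, pow_two, haa, one_pow,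
      mul_one] at h2
    exact (mul_inv_eq_iff_eq_mul.1 h2.symm)
  have h1 := two_mul_card h (pow_a h 15) hc hca
  have h2 := card_DD h F (wd_isC 15) chkw fixw (σ := Equiv.swap 0 1) (by decide) oddw cardw
  simp only [List.length_cons, List.length_nil] at h2
  have h3 : 24 ≤ Nat.card ↥(centralizer ({ev γ (wd 15)} : Set G)) := by
    have h4 : zpowers (ev γ (wd 15)) ≤ centralizer ({ev γ (wd 15)} : Set G) := by
      rw [zpowers_le, mem_centralizer_singleton_iff]
    have h5 := Nat.card_le_card_of_injective _ (Subgroup.inclusion_injective h4)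
    rw [Nat.card_zpowers, ord h F] at h5
    exact h5
  omega

/-- The other words are not conjugate to `w a`. -/
theorem not_conj' (j : Fin 21) : ¬ IsConj (ev γ (wd 15) * γ 1) (ev γ (wd j)) := by
  intro hcon
  have haw : Commute (ev γ (wd 15)) (γ 1) := h.mem_C.1 (ev_mem_sub (wd_isC 15))
  have haa : γ 1 * γ 1 = 1 := h.aa
  have hpow : (ev γ (wd 15) * γ 1) ^ 12 = γ 1 := by
    rw [haw.mul_pow, show ev γ (wd 15) ^ 12 = γ 1 from pow_a h 15, show 12 = 2 * 6 from rfl, pow_mul,
      pow_two, haa, one_pow, mul_one]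
  have hmem : ∀ x ∈ wd 15 ++ [1], isC x = true := by decide +kernel
  have hev : ev γ (wd 15 ++ [1]) = ev γ (wd 15) * γ 1 := by rw [ev_append, ev_singleton]
  have hord : orderOf (ev γ (wd 15) * γ 1) = 2 * hf 15 := by
    rw [← hev]
    refine ord_W h F hmem (hf_pos 15) (by decide +kernel) fun p hp hd => ?_
    have hle : p < 37 := lt_of_le_of_lt (Nat.le_of_dvd (by have := hf_pos 15; omega) hd) (hf_le 15)
    rcases hf_prime 15 p hle hp hd with h1 | h1
    · exact Or.inl h1
    · right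
      have h2 := wd_ne 15 p h1 hd
      have h3 : pm9 (wd 15 ++ [1]) = pm9 (wd 15) := by decide +kernel
      rw [h3]
      exact h2
  have h1 := H419.Count.orderOf_eq_of_isConj hcon
  rw [hord, ord h F] at h1
  have h2 : hf 15 = hf j := by omega
  obtain ⟨g, hg⟩ := isConj_iff.1 hcon
  have h3 : g * γ 1 * g⁻¹ = γ 1 := by
    have h4 : (g * (ev γ (wd 15) * γ 1) * g⁻¹) ^ 12 = g * (ev γ (wd 15) * γ 1) ^ 12 * g⁻¹ := conj_pow
    rw [hg, hpow, show (12 : ℕ) = hf 15 from rfl, h2, pow_a h j] at h4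
    exact h4.symm
  have hgC : g ∈ sub γ isC := h.mem_C.2 (mul_inv_eq_iff_eq_mul.1 h3)
  have h5 : ((f ⟨g, hgC⟩ : alternatingGroup (Fin 9)) : Equiv.Perm (Fin 9)) * pm9 (wd 15) =
      pm9 (wd j) * ((f ⟨g, hgC⟩ : alternatingGroup (Fin 9)) : Equiv.Perm (Fin 9)) := by
    have h6 : pm9 (wd 15 ++ [1]) = pm9 (wd 15) := by decide +kernel
    rw [← h6, ← F.word _ hmem, ← F.word _ (wd_isC j), ← Subgroup.coe_mul, ← Subgroup.coe_mul, ← map_mul,
      ← map_mul]
    congr 2
    apply Subtype.ext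
    change g * ev γ (wd 15 ++ [1]) = ev γ (wd j) * g
    rw [hev]
    exact mul_inv_eq_iff_eq_mul.1 hg
  have h7 : ty 15 = ty j := by
    rw [← wd_ty, ← wd_ty, ← Equiv.Perm.cycleType_conj (σ := pm9 (wd 15))
      (τ := ((f ⟨g, hgC⟩ : alternatingGroup (Fin 9)) : Equiv.Perm (Fin 9))), h5, mul_inv_cancel_right]
  rcases sep 15 j h2 h7 with h8 | ⟨h8, -⟩ | ⟨h8, -⟩
  · rw [← h8] at hcon
    exact not_conj h F hcon.symm
  · exact absurd h8 (by decide)
  · exact absurd h8 (by decide)

theorem ord_x : orderOf (ev γ X8) = 8 := by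
  rw [← x_eq h, orderOf_pow' _ (by norm_num), ord h F]
  decide

theorem rat_x : ∀ m : ℕ, m.Coprime (orderOf (ev γ X8)) → IsConj (ev γ X8) (ev γ X8 ^ m) := by
  refine rat_eight (ord_x h F) ?_ (Or.inl ?_)
  · refine isConj_iff.2 ⟨ev γ Wc, ?_⟩
    rw [conj_c h, pow_succ', x_four h]
  · exact isConj_iff.2 ⟨ev γ Wg, conj_g h⟩

end

/-- `k(Th) ≥ 33` -/
theorem k_ge33 : 33 ≤ Nat.card (ConjClasses Spor.Th) := by
  classical
  have hfin := fin_th
  have h := Cfsg.Agent.KFacts.Th.Main.ctx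
  obtain ⟨f, F⟩ := exists_epi h
  have h30 : ∀ n, n ∣ 30 → ∃ g : Spor.Th, orderOf g = n := fun n hn =>
    H419.Count.exists_order_of_dvd (x := ev Cfsg.Agent.Th.IndexUpper.gTh (wd 18)) (by
      rw [ord h F]; exact hn.trans (by decide))
  have h18 : ∀ n, n ∣ 18 → ∃ g : Spor.Th, orderOf g = n := fun n hn =>
    H419.Count.exists_order_of_dvd (x := ev Cfsg.Agent.Th.IndexUpper.gTh (wd 13)) (by
      rw [ord h F]; exact hn.trans (by decide))
  have hp : ∀ p : ℕ, p.Prime → p ∣ 90745943887872000 → ∃ g : Spor.Th, orderOf g = p := by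
    intro p hp hd
    have : Fact p.Prime := ⟨hp⟩
    exact exists_prime_orderOf_dvd_card' p (by rw [Cfsg.Agent.H723.Spor.Th.card_th]; exact hd)
  have h21 : ∃ g : Spor.Th, orderOf g = 21 := by
    obtain ⟨s, F, hs, hinj, hFs, hall⟩ := exists_F
    exact ⟨_, (card_sF hs hinj hFs hall orderA (by norm_num) cardA).1⟩
  have f13 : Fact (Nat.Prime 13) := ⟨by norm_num⟩
  have hcard : Nat.card Spor.Th = 90745943887872000 := Cfsg.Agent.H723.Spor.Th.card_th
  obtain ⟨y, hy, hy'⟩ := exists_orderOf_of_not_dvd (G := Spor.Th) (p := 13)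
    (factorization_eq_one (by rw [hcard]; norm_num) (by rw [hcard]; norm_num))
    (by rw [hcard]; norm_num)
  set S : Finset ℕ := {1, 3, 5, 7, 9, 13, 15, 19, 31, 21} with hSd
  have hS : ∀ n ∈ S, ∃ g : Spor.Th, orderOf g = n := by
    intro n hn
    simp only [hSd, Finset.mem_insert, Finset.mem_singleton] at hn
    rcases hn with rfl | rfl | rfl | rfl | rfl | rfl | rfl | rfl | rfl | rfl
    · exact h30 _ (by norm_num)
    · exact h30 _ (by norm_num)
    · exact h30 _ (by norm_num)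
    · exact hp _ (by norm_num) (by norm_num)
    · exact h18 _ (by norm_num)
    · exact hp _ (by norm_num) (by norm_num)
    · exact h30 _ (by norm_num)
    · exact hp _ (by norm_num) (by norm_num)
    · exact hp _ (by norm_num) (by norm_num)
    · exact h21
  have hSodd : ∀ n ∈ S, n % 2 = 1 := by decide
  have hS13 : ∀ n ∈ S, 13 ∣ n → n = 13 := by decide
  have hw13 : ∀ i : Fin 21, ¬ 13 ∣ 2 * hf i := by decide +kernel
  choose w hw using fun n : S => hS n.1 n.2
  set γ := Cfsg.Agent.Th.IndexUpper.gTh with hγ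
  have haw : orderOf (ev γ (wd 15) * γ 1) = 24 := by
    have haw : Commute (ev γ (wd 15)) (γ 1) := h.mem_C.1 (ev_mem_sub (wd_isC 15))
    have haa : γ 1 * γ 1 = 1 := h.aa
    have h1 : ev γ (wd 15) * γ 1 = ev γ (wd 15) ^ 13 := by
      rw [pow_succ' _ 12, show ev γ (wd 15) ^ 12 = γ 1 from pow_a h 15]
    rw [h1, Nat.Coprime.orderOf_pow, ord h F]
    · rfl
    · rw [ord h F]; decide
  have key := H419.Count.card_le_of_pairwise (ι := (Fin 21 ⊕ S) ⊕ Fin 2)
    (Sum.elim (Sum.elim (fun i => ev γ (wd i)) w) ![y, ev γ (wd 15) * γ 1]) ?_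
  · rw [Nat.card_sum, Nat.card_sum, Nat.card_eq_fintype_card, Fintype.card_fin,
      Nat.card_eq_fintype_card, Fintype.card_coe, Nat.card_eq_fintype_card, Fintype.card_fin] at key
    exact key
  · -- invariants
    have ho : ∀ a b : Spor.Th, IsConj a b → orderOf a = orderOf b := fun a b hab =>
      H419.Count.orderOf_eq_of_isConj hab
    have hws : ∀ i (j : S), ¬ IsConj (ev γ (wd i)) (w j) := by
      intro i j hc
      have h1 := ho _ _ hc
      rw [ord h F, hw] at h1
      have := hSodd j.1 j.2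
      omega
    have hyw : ∀ i, ¬ IsConj y (ev γ (wd i)) := by
      intro i hc
      have h1 := ho _ _ hc
      rw [ord h F] at h1
      rw [h1] at hy
      exact hw13 i hy
    have hys : ∀ j : S, ¬ IsConj y (w j) := by
      intro j hc
      have h1 := ho _ _ hc
      rw [hw] at h1
      rw [h1] at hy hy'
      exact hy' (hS13 j.1 j.2 hy)
    have has : ∀ j : S, ¬ IsConj (ev γ (wd 15) * γ 1) (w j) := by
      intro j hc
      have h1 := ho _ _ hc
      rw [haw, hw] at h1
      have := hSodd j.1 j.2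
      omega
    have hya : ¬ IsConj y (ev γ (wd 15) * γ 1) := by
      intro hc
      have h1 := ho _ _ hc
      rw [haw] at h1
      rw [h1] at hy
      norm_num at hy
    rintro ((i | i) | i) ((j | j) | j) hij
    · exact congrArg _ (congrArg _ (eq_of_conj h F hij))
    · exact (hws i j hij).elim
    · fin_cases j
      · exact (hyw i hij.symm).elim
      · exact (not_conj' h F i hij.symm).elim
    · exact (hws j i hij.symm).elim
    · have h2 := ho _ _ hij
      simp only [Sum.elim_inl, Sum.elim_inr, hw] at h2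
      exact congrArg _ (congrArg _ (Subtype.ext h2))
    · fin_cases j
      · exact (hys i hij.symm).elim
      · exact (has i hij.symm).elim
    · fin_cases i
      · exact (hyw j hij).elim
      · exact (not_conj' h F j hij).elim
    · fin_cases i
      · exact (hys j hij).elim
      · exact (has j hij).elim
    · fin_cases i <;> fin_cases j
      · rfl
      · exact (hya hij).elim
      · exact (hya hij.symm).elim
      · rfl

theorem th_2' : Cfsg.Agent.H620.PNorm.VPow 2 Spor.Th := by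
  have hfin := fin_th
  have h := Cfsg.Agent.KFacts.Th.Main.ctx
  obtain ⟨f, F⟩ := exists_epi h
  have hk := k_ge33
  have h1 := card_x h F
  have h2 := card_w h F
  have hv : Van Spor.Th (ev Cfsg.Agent.Th.IndexUpper.gTh X8) :=
    van_of_pow Nat.prime_three (x_eq h) (rat_x h F) (by omega)
  exact ⟨_, ⟨3, by rw [ord_x h F]; norm_num⟩,
    H419.Count.vz_of_inner hv (H419.Row.inner_of_out Cfsg.Agent.S2083.result)⟩

/-- The Thompson group, `p = 2`. -/
theorem th_2 {K : Type v} [Group K] (h : Spor.IsoTh K) : Cfsg.Agent.H620.PNorm.VPow 2 K := by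
  obtain ⟨e⟩ := h
  exact th_2'.mulEquiv e.symm

end Cfsg.Agent.H984.PV.Th2
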